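import Cfsg.Agent.Base

/-! Elementary abelian subgroups, `p`-rank and small normal subgroups of `p`-groups. -/

set_option autoImplicit false

namespace CL.SigMisc

open Cfsg Subgroup

universe u

variable {G : Type*} [Group G]

theorem elemAb_comm {p : ℕ} {A : Subgroup G} (hA : IsElementaryAbelian p A) {a b : G}
    (ha : a ∈ A) (hb : b ∈ A) : a * b = b * a :=
  congrArg Subtype.val (hA.1.is_comm.comm (⟨a, ha⟩ : A) ⟨b, hb⟩)

theorem elemAb_mk {p : ℕ} {A : Subgroup G} (h1 : ∀ a ∈ A, ∀ b ∈ A, a * b = b * a)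
    (h2 : ∀ a ∈ A, a ^ p = 1) : IsElementaryAbelian p A :=
  ⟨⟨⟨fun a b => Subtype.ext (h1 a a.2 b b.2)⟩⟩, h2⟩

theorem elemAb_of_le {p : ℕ} {A B : Subgroup G} (hA : IsElementaryAbelian p A) (h : B ≤ A) :
    IsElementaryAbelian p B :=
  elemAb_mk (fun _ ha _ hb => elemAb_comm hA (h ha) (h hb)) (fun a ha => hA.2 a (h ha))

theorem elemAb_isPGroup {p : ℕ} {A : Subgroup G} (hA : IsElementaryAbelian p A) :
    IsPGroup p A := fun a => ⟨1, Subtype.ext (by simpa using hA.2 a a.2)⟩

theorem elemAb_le_centralizer {p : ℕ} {A : Subgroup G} (hA : IsElementaryAbelian p A) :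
    A ≤ centralizer (A : Set G) := fun _ ha =>
  mem_centralizer_iff.mpr fun _ hb => elemAb_comm hA hb ha

theorem elemAb_zpowers {p : ℕ} {x : G} (hx : x ^ p = 1) : IsElementaryAbelian p (zpowers x) := by
  refine ⟨inferInstance, ?_⟩
  rintro _ ⟨k, rfl⟩
  simp only
  rw [← zpow_natCast, ← zpow_mul, mul_comm, zpow_mul, zpow_natCast, hx, one_zpow]

theorem mem_sup_of_commute {A B : Subgroup G} (h : ∀ a ∈ A, ∀ b ∈ B, a * b = b * a) {x : G}
    (hx : x ∈ A ⊔ B) : ∃ a ∈ A, ∃ b ∈ B, a * b = x := by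
  have hnorm : A ≤ normalizer (B : Set G) :=
    le_trans (fun a ha => mem_centralizer_iff.mpr fun b hb => (h a ha b hb).symm)
      (centralizer_le_normalizer _)
  have hx' : x ∈ ((A ⊔ B : Subgroup G) : Set G) := hx
  rw [coe_mul_of_left_le_normalizer_right A B hnorm] at hx'
  obtain ⟨a, ha, b, hb, rfl⟩ := hx'
  exact ⟨a, ha, b, hb, rfl⟩

theorem elemAb_sup {p : ℕ} {A B : Subgroup G} (hA : IsElementaryAbelian p A)
    (hB : IsElementaryAbelian p B) (h : ∀ a ∈ A, ∀ b ∈ B, a * b = b * a) :
    IsElementaryAbelian p (A ⊔ B) := by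
  apply elemAb_mk
  · intro x hx y hy
    obtain ⟨a, ha, b, hb, rfl⟩ := mem_sup_of_commute h hx
    obtain ⟨c, hc, d, hd, rfl⟩ := mem_sup_of_commute h hy
    have h1 : Commute a c := elemAb_comm hA ha hc
    have h2 : Commute b d := elemAb_comm hB hb hd
    have h3 : Commute a d := h a ha d hd
    have h4 : Commute b c := (h c hc b hb).symm
    exact ((h1.mul_right h3).mul_left (h4.mul_right h2)).eq
  · intro x hx
    obtain ⟨a, ha, b, hb, rfl⟩ := mem_sup_of_commute h hx
    have h3 : Commute a b := h a ha b hb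
    rw [h3.mul_pow, hA.2 a ha, hB.2 b hb, one_mul]

theorem elemAb_map {p : ℕ} {G' : Type*} [Group G'] (f : G →* G') {A : Subgroup G}
    (hA : IsElementaryAbelian p A) : IsElementaryAbelian p (A.map f) := by
  apply elemAb_mk
  · rintro _ ⟨a, ha, rfl⟩ _ ⟨b, hb, rfl⟩
    rw [← map_mul, ← map_mul, elemAb_comm hA ha hb]
  · rintro _ ⟨a, ha, rfl⟩
    rw [← map_pow, hA.2 a ha, map_one]

theorem elemAb_subgroupOf {p : ℕ} {A : Subgroup G} (H : Subgroup G)
    (hA : IsElementaryAbelian p A) : IsElementaryAbelian p (A.subgroupOf H) := by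
  apply elemAb_mk
  · intro a ha b hb
    exact Subtype.ext (elemAb_comm hA ha hb)
  · intro a ha
    exact Subtype.ext (hA.2 a ha)

theorem not_pRankLE_iff' {p k : ℕ} :
    ¬ PRankLE p k G ↔ ∃ E : Subgroup G, IsElementaryAbelian p E ∧ p ^ k < Nat.card E := by
  unfold PRankLE
  push Not
  constructor
  · rintro ⟨A, h1, h2, h3⟩
    exact ⟨A, ⟨h1, h2⟩, h3⟩
  · rintro ⟨A, ⟨h1, h2⟩, h3⟩
    exact ⟨A, h1, h2, h3⟩

/-- The rank of a subgroup in terms of subgroups of the ambient group. -/
theorem not_pRankLE_iff {p k : ℕ} {H : Subgroup G} :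
    ¬ PRankLE p k H ↔ ∃ E : Subgroup G, E ≤ H ∧ IsElementaryAbelian p E ∧ p ^ k < Nat.card E := by
  rw [not_pRankLE_iff']
  constructor
  · rintro ⟨A, h1, h2⟩
    refine ⟨A.map H.subtype, map_subtype_le A, elemAb_map _ h1, ?_⟩
    rwa [card_map_of_injective H.subtype_injective]
  · rintro ⟨E, h1, h2, h3⟩
    refine ⟨E.subgroupOf H, elemAb_subgroupOf H h2, ?_⟩
    rwa [Nat.card_congr (subgroupOfEquivOfLe h1).toEquiv]

theorem card_lt_of_lt [Finite G] {A B : Subgroup G} (h : A < B) : Nat.card A < Nat.card B := by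
  have h1 : Nat.card A ≤ Nat.card B := card_le_of_le h.le
  rcases h1.lt_or_eq with h2 | h2
  · exact h2
  · exact absurd (eq_of_le_of_card_ge h.le h2.ge) h.ne

/-- In a `p`-group, `p ^ k < |A|` gives `p ^ (k + 1) ≤ |A|`. -/
theorem pow_succ_le_card {p k : ℕ} [hp : Fact p.Prime] [Finite G] (hG : IsPGroup p G)
    (h : p ^ k < Nat.card G) : p ^ (k + 1) ≤ Nat.card G := by
  obtain ⟨n, hn⟩ := hG.exists_card_eq
  rw [hn] at h ⊢
  exact Nat.pow_le_pow_right hp.out.pos ((Nat.pow_lt_pow_iff_right hp.out.one_lt).mp h)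

/-- A nontrivial normal subgroup of a finite `p`-group contains a central element of order `p`. -/
theorem exists_mem_center_of_normal {p : ℕ} [hp : Fact p.Prime] [Finite G] (hG : IsPGroup p G)
    (N : Subgroup G) [N.Normal] (hN : N ≠ ⊥) : ∃ z ∈ N, orderOf z = p ∧ z ∈ center G := by
  have hG' : IsPGroup p (ConjAct G) := hG.of_equiv ConjAct.toConjAct
  have hdvd : p ∣ Nat.card N := by
    rcases (hG.to_subgroup N).card_eq_or_dvd with h | h
    · exact absurd (card_eq_one.mp h) hN
    · exact h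
  obtain ⟨b, hb, hb1⟩ := hG'.exists_fixed_point_of_prime_dvd_card_of_fixed_point N hdvd
    (a := (1 : N)) (fun g => smul_one g)
  have hbc : (b : G) ∈ center G := by
    rw [mem_center_iff]
    intro g
    have := congrArg Subtype.val (hb (ConjAct.toConjAct g))
    rw [ConjAct.Subgroup.val_conj_smul, ConjAct.toConjAct_smul] at this
    exact mul_inv_eq_iff_eq_mul.mp this
  have hb1' : (b : G) ≠ 1 := fun h => hb1 (Subtype.ext h.symm)
  have hd : p ∣ orderOf (b : G) := hG.dvd_orderOf hb1'
  refine ⟨(b : G) ^ (orderOf (b : G) / p), N.pow_mem b.2 _, ?_, pow_mem hbc _⟩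
  exact orderOf_pow_orderOf_div (orderOf_pos _).ne' hd

theorem normal_of_le_center {Z : Subgroup G} (h : Z ≤ center G) : Z.Normal :=
  ⟨fun a ha g => by
    have := mem_center_iff.mp (h ha) g
    rw [this, mul_inv_cancel_right]; exact ha⟩

/-- A normal subgroup `N` of a finite `p`-group with `p ^ k ≤ |N|` contains a normal subgroup of
order `p ^ k`. -/
theorem exists_normal_le_card_pow {p : ℕ} [hp : Fact p.Prime] (k : ℕ) :
    ∀ {P : Type u} [Group P] [Finite P], IsPGroup p P → ∀ (N : Subgroup P) [N.Normal],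
      p ^ k ≤ Nat.card N → ∃ U : Subgroup P, U ≤ N ∧ U.Normal ∧ Nat.card U = p ^ k := by
  induction k with
  | zero => intro P _ _ _ N _ _; exact ⟨⊥, bot_le, inferInstance, by simp⟩
  | succ k ih =>
    intro P _ _ hP N _ hk
    have hN : N ≠ ⊥ := by
      rintro rfl
      have : 1 < p ^ (k + 1) := Nat.one_lt_pow (Nat.succ_ne_zero k) hp.out.one_lt
      rw [card_bot] at hk; omega
    obtain ⟨z, hzN, hz, hzc⟩ := exists_mem_center_of_normal hP N hN
    have hZ : (zpowers z).Normal := normal_of_le_center (zpowers_le.mpr hzc)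
    have hZN : zpowers z ≤ N := zpowers_le.mpr hzN
    have hcomap : (N.map (QuotientGroup.mk' (zpowers z))).comap (QuotientGroup.mk' (zpowers z)) = N := by
      rw [comap_map_eq, QuotientGroup.ker_mk', sup_eq_left.mpr hZN]
    have hcard : ∀ T : Subgroup (P ⧸ zpowers z),
        Nat.card (T.comap (QuotientGroup.mk' (zpowers z))) = p * Nat.card T := by
      intro T
      have := QuotientGroup.card_preimage_mk (zpowers z) (T : Set (P ⧸ zpowers z))
      rw [Nat.card_zpowers, hz] at this
      exact this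
    have hNn : (N.map (QuotientGroup.mk' (zpowers z))).Normal :=
      Normal.map inferInstance _ (QuotientGroup.mk'_surjective _)
    have h1 := hcard (N.map (QuotientGroup.mk' (zpowers z)))
    rw [hcomap] at h1
    have h2 : p ^ k ≤ Nat.card (N.map (QuotientGroup.mk' (zpowers z))) := by
      rw [h1, pow_succ'] at hk
      exact Nat.le_of_mul_le_mul_left hk hp.out.pos
    obtain ⟨U, hU1, hU2, hU3⟩ := ih (hP.to_quotient (zpowers z)) _ h2
    refine ⟨U.comap (QuotientGroup.mk' (zpowers z)), ?_, inferInstance, ?_⟩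
    · rw [← hcomap]; exact comap_mono hU1
    · rw [hcard, hU3, pow_succ']

/-- If `X` has order at most `p ^ 2`, contains the element `z` of order `p` and `x ∈ X` is not a
power of `z`, then an element commuting with `z` and `x` centralizes `X`. -/
theorem mem_centralizer_of_card_le_sq {p : ℕ} [hp : Fact p.Prime] [Finite G] {X : Subgroup G}
    (hX : IsPGroup p X) (hc : Nat.card X ≤ p ^ 2) {z x g : G} (hzX : z ∈ X) (hz : orderOf z = p)
    (hxX : x ∈ X) (hx : x ∉ zpowers z) (hgz : z * g = g * z) (hgx : x * g = g * x) :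
    g ∈ centralizer (X : Set G) := by
  have h1 : zpowers z < X ⊓ centralizer {g} := by
    refine lt_of_le_of_ne (zpowers_le.mpr ⟨hzX, mem_centralizer_singleton_iff.mpr hgz⟩) ?_
    intro h
    exact hx (h ▸ ⟨hxX, mem_centralizer_singleton_iff.mpr hgx⟩)
  have h2 := card_lt_of_lt h1
  rw [Nat.card_zpowers, hz] at h2
  have h3 : p ^ (1 + 1) ≤ Nat.card ↥(X ⊓ centralizer {g}) :=
    pow_succ_le_card hX.to_inf_left (by simpa using h2)
  have h4 : X ⊓ centralizer {g} = X := eq_of_le_of_card_ge inf_le_left (hc.trans h3)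
  rw [mem_centralizer_iff]
  intro y hy
  have : y ∈ X ⊓ centralizer {g} := by rw [h4]; exact hy
  exact mem_centralizer_singleton_iff.mp this.2

/-- A normal subgroup of order at most `p ^ 2` of a finite `p`-group has centralizer of index at
most `p`. -/
theorem index_centralizer_le {p : ℕ} [hp : Fact p.Prime] [Finite G] (hG : IsPGroup p G)
    (N : Subgroup G) [hNn : N.Normal] (hN : Nat.card N ≤ p ^ 2) :
    (centralizer (N : Set G)).index ≤ p := by
  by_cases hc : N ≤ center G
  · have : centralizer (N : Set G) = ⊤ := centralizer_eq_top_iff_subset.mpr hc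
    rw [this, index_top]; exact hp.out.one_le
  have hbot : N ≠ ⊥ := by rintro rfl; exact hc bot_le
  obtain ⟨z, hzN, hz, hzc⟩ := exists_mem_center_of_normal hG N hbot
  obtain ⟨u, huN, huc⟩ := SetLike.not_le_iff_exists.mp hc
  have huz : u ∉ zpowers z := fun h => huc (zpowers_le.mpr hzc h)
  have hle : centralizer {u} ≤ centralizer (N : Set G) := fun g hg =>
    mem_centralizer_of_card_le_sq (hG.to_subgroup N) hN hzN hz huN huz
      (mem_center_iff.mp hzc g).symm (mem_centralizer_singleton_iff.mp hg).symm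
  have h1 : (centralizer (N : Set G)).index ≤ (centralizer {u}).index :=
    Nat.le_of_dvd (Nat.pos_of_ne_zero index_ne_zero_of_finite) (index_dvd_of_le hle)
  refine h1.trans ?_
  obtain ⟨n, hn⟩ := hG.index (centralizer {u})
  have h2 : (centralizer {u}).index < p ^ 2 := by
    have h3 : (centralizer {u}).index = Nat.card (MulAction.orbit (ConjAct G) u) := by
      rw [Nat.card_coe_set_eq, ← MulAction.index_stabilizer,
        Subgroup.centralizer_eq_comap_stabilizer]
      exact index_comap_of_surjective _ ConjAct.toConjAct.surjective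
    rw [h3]
    refine lt_of_lt_of_le ?_ hN
    have hsub : MulAction.orbit (ConjAct G) u ⊂ (N : Set G) := by
      refine ⟨?_, fun h => ?_⟩
      · rintro _ ⟨g, rfl⟩
        exact hNn.conj_mem u huN (ConjAct.ofConjAct g)
      · obtain ⟨g, hg⟩ := h N.one_mem
        have : u = 1 := by
          have hg' : g • u = 1 := hg
          rw [smul_eq_iff_eq_inv_smul, smul_one] at hg'
          exact hg'
        exact huc (this ▸ one_mem _)
    exact Set.Finite.card_lt_card (Set.toFinite _) hsub
  rw [hn] at h2 ⊢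
  have := (Nat.pow_lt_pow_iff_right hp.out.one_lt).mp h2
  calc p ^ n ≤ p ^ 1 := Nat.pow_le_pow_right hp.out.pos (by omega)
    _ = p := pow_one p

theorem card_le_index_mul_card_inf [Finite G] (E T : Subgroup G) :
    Nat.card E ≤ T.index * Nat.card ↥(E ⊓ T) := by
  have h1 : Nat.card (T.subgroupOf E) * T.relIndex E = Nat.card E := card_mul_index _
  have h2 : Nat.card (T.subgroupOf E) = Nat.card ↥(E ⊓ T) := by
    rw [← inf_subgroupOf_left]
    exact Nat.card_congr (subgroupOfEquivOfLe inf_le_left).toEquiv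
  have h3 : T.relIndex E ≤ T.index := by
    rw [← relIndex_top_right]
    exact relIndex_le_of_le_right le_top (by rw [relIndex_top_right]; exact index_ne_zero_of_finite)
  rw [← h1, h2, mul_comm]
  exact Nat.mul_le_mul_right _ h3

end CL.SigMisc
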