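import Cfsg.Agent.Base
import Cfsg.Agent.Lin.Gen

/-! Block diagonal matrices `diag(A, b)` with `A` of size `m` and `b` a scalar. -/

set_option autoImplicit false

namespace CL.SigMisc

open Matrix

variable {F : Type*} [Field F] {m : ℕ}

/-- The block diagonal matrix `diag(A, b)`. -/
def blk (A : Matrix (Fin m) (Fin m) F) (b : F) : Matrix (Fin (m + 1)) (Fin (m + 1)) F :=
  Matrix.of fun i j => Fin.lastCases (Fin.lastCases b (fun _ => 0) j)
    (fun i' => Fin.lastCases 0 (fun j' => A i' j') j) i

theorem blk_cc (A : Matrix (Fin m) (Fin m) F) (b : F) (i j : Fin m) :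
    blk A b i.castSucc j.castSucc = A i j := by simp [blk]

theorem blk_cl (A : Matrix (Fin m) (Fin m) F) (b : F) (i : Fin m) :
    blk A b i.castSucc (Fin.last m) = 0 := by simp [blk]

theorem blk_lc (A : Matrix (Fin m) (Fin m) F) (b : F) (j : Fin m) :
    blk A b (Fin.last m) j.castSucc = 0 := by simp [blk]

theorem blk_ll (A : Matrix (Fin m) (Fin m) F) (b : F) :
    blk A b (Fin.last m) (Fin.last m) = b := by simp [blk]

theorem blk_mul (A A' : Matrix (Fin m) (Fin m) F) (b b' : F) :
    blk A b * blk A' b' = blk (A * A') (b * b') := by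
  ext i j
  induction i using Fin.lastCases <;> induction j using Fin.lastCases <;>
    simp [Matrix.mul_apply, Fin.sum_univ_castSucc, blk_cc, blk_cl, blk_lc, blk_ll]

theorem blk_diagonal (d : Fin m → F) (b : F) :
    blk (diagonal d) b = diagonal (Fin.lastCases b d) := by
  ext i j
  induction i using Fin.lastCases <;> induction j using Fin.lastCases <;>
    simp [blk_cc, blk_cl, blk_lc, blk_ll, diagonal_apply, Fin.castSucc_ne_last,
      (Fin.castSucc_ne_last _).symm]

theorem blk_one : blk (1 : Matrix (Fin m) (Fin m) F) 1 = 1 := by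
  ext i j
  induction i using Fin.lastCases <;> induction j using Fin.lastCases <;>
    simp [blk_cc, blk_cl, blk_lc, blk_ll, one_apply, Fin.castSucc_ne_last,
      (Fin.castSucc_ne_last _).symm]

theorem blk_inj {A A' : Matrix (Fin m) (Fin m) F} {b b' : F} (h : blk A b = blk A' b') :
    A = A' ∧ b = b' :=
  ⟨Matrix.ext fun i j => by rw [← blk_cc A b, h, blk_cc], by rw [← blk_ll A b, h, blk_ll]⟩

theorem det_blk (A : Matrix (Fin m) (Fin m) F) (b : F) : (blk A b).det = A.det * b := by
  rw [Matrix.det_succ_row _ (Fin.last m), Fin.sum_univ_castSucc]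
  simp only [blk_lc, blk_ll, mul_zero, zero_mul, Finset.sum_const_zero, zero_add, Fin.val_last,
    Fin.succAbove_last]
  have : (blk A b).submatrix Fin.castSucc Fin.castSucc = A := Matrix.ext fun i j => blk_cc A b i j
  rw [this, ← two_mul, pow_mul]
  simp [mul_comm]

/-- A matrix commuting with `diag(-1, …, -1, 1)` is block diagonal. -/
theorem exists_blk_of_commute (h2 : (2 : F) ≠ 0) {M : Matrix (Fin (m + 1)) (Fin (m + 1)) F}
    (h : M * blk (-1) 1 = blk (-1) 1 * M) : ∃ A b, M = blk A b := by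
  have h1 : (-1 : Matrix (Fin m) (Fin m) F) = diagonal (fun _ => -1) := by
    rw [← diagonal_one, diagonal_neg]
  rw [h1, blk_diagonal] at h
  refine ⟨M.submatrix Fin.castSucc Fin.castSucc, M (Fin.last m) (Fin.last m), ?_⟩
  ext i j
  have hij := congrFun (congrFun h i) j
  rw [mul_diagonal, diagonal_mul] at hij
  induction i using Fin.lastCases <;> induction j using Fin.lastCases <;>
    simp only [blk_cc, blk_cl, blk_lc, blk_ll, submatrix_apply, Fin.lastCases_last,
      Fin.lastCases_castSucc] at hij ⊢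
  · exact mul_left_cancel₀ h2 (by linear_combination -hij)
  · exact mul_left_cancel₀ h2 (by linear_combination hij)

theorem blk_commute_neg (A : Matrix (Fin m) (Fin m) F) (b : F) :
    blk A b * blk (-1) 1 = blk (-1) 1 * blk A b := by
  rw [blk_mul, blk_mul]; simp

/-- The embedding `A ↦ diag(A, 1)` of special linear groups. -/
def slBlk : SpecialLinearGroup (Fin m) F →* SpecialLinearGroup (Fin (m + 1)) F :=
  MonoidHom.mk' (fun A => ⟨blk A.1 1, by rw [det_blk, A.2, mul_one]⟩) fun A B =>
    Subtype.ext (by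
      change blk (A.1 * B.1) 1 = blk A.1 1 * blk B.1 1
      rw [blk_mul, mul_one])

theorem coe_slBlk (A : SpecialLinearGroup (Fin m) F) : (slBlk A).1 = blk A.1 1 := rfl

theorem slBlk_injective : Function.Injective (slBlk (F := F) (m := m)) := fun _ _ h =>
  Subtype.ext (blk_inj (congrArg Subtype.val h)).1

theorem exists_conj_blk (h2 : (2 : F) ≠ 0) {M M' : Matrix (Fin (m + 1)) (Fin (m + 1)) F}
    (h : M * blk (-1) 1 = blk (-1) 1 * M) (h' : M' * blk (-1) 1 = blk (-1) 1 * M')
    (hMM' : M * M' = 1) (X : SpecialLinearGroup (Fin m) F) :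
    ∃ Y : SpecialLinearGroup (Fin m) F, blk Y.1 1 = M * blk X.1 1 * M' := by
  obtain ⟨A, b, rfl⟩ := exists_blk_of_commute h2 h
  obtain ⟨A', b', rfl⟩ := exists_blk_of_commute h2 h'
  rw [blk_mul, ← blk_one] at hMM'
  obtain ⟨h1, h3⟩ := blk_inj hMM'
  refine ⟨⟨A * X.1 * A', ?_⟩, by rw [blk_mul, blk_mul, mul_one, h3]⟩
  rw [det_mul, det_mul, X.2, mul_one, ← det_mul, h1, det_one]

theorem exists_involution_SL (h2 : (2 : F) ≠ 0) (hm : 2 ≤ m) :
    ∃ d : SpecialLinearGroup (Fin m) F, orderOf d = 2 := by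
  have hij : (⟨0, by omega⟩ : Fin m) ≠ ⟨1, by omega⟩ := by simp
  refine ⟨SpecialLinearGroup.diag2n hij (-1) (by simp), orderOf_eq_prime ?_ ?_⟩
  · apply Subtype.ext
    change (SpecialLinearGroup.diag2n hij (-1 : F) (by simp)).1 ^ 2 = 1
    rw [SpecialLinearGroup.diag2n_coe, diagonal_pow, ← diagonal_one]
    congr 1
    funext k
    simp only [Pi.pow_apply]
    split_ifs <;> simp
  · intro h
    have h' : (SpecialLinearGroup.diag2n hij (-1 : F) (by simp)).1 = 1 := congrArg Subtype.val h
    have := congrFun (congrFun h' ⟨0, by omega⟩) ⟨0, by omega⟩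
    rw [SpecialLinearGroup.diag2n_coe] at this
    simp only [diagonal_apply_eq, if_true, one_apply_eq] at this
    exact h2 (by linear_combination -this)

theorem isQuasisimple_SL (h : 3 ≤ m ∨ (m = 2 ∧ 4 ≤ Nat.card F)) :
    Cfsg.IsQuasisimple (SpecialLinearGroup (Fin m) F) := by
  rcases h with h | ⟨rfl, h⟩
  · exact ⟨⟨CL.Lin.SL_commutator_eq_top (by simpa using h)⟩, CL.Lin.PSL_simple (by simpa using h)⟩
  · refine ⟨⟨?_⟩, Matrix.ProjectiveSpecialLinearGroup.rank_two_simple h⟩
    have : Finite F := (Nat.card_pos_iff.1 (by omega)).2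
    obtain ⟨x, hx⟩ : IsCyclic Fˣ := by infer_instance
    refine SL2.commutator_eq_top (a := x) (Units.ne_zero x) fun h' => ?_
    grw [Nat.card_eq_card_units_add_one F, ← orderOf_eq_card_of_forall_mem_zpowers hx,
      orderOf_le_of_pow_eq_one zero_lt_two (Units.ext <| by simpa using h')] at h
    omega

end CL.SigMisc
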