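import Cfsg.Agent.Base
import Cfsg.Agent.SigMisc.Rank
import Cfsg.Agent.Sig.CompLayer

/-! Elementary abelian `2`-groups acting on groups of odd order: elements on which every element of
the acting group acts trivially or by inversion. -/

set_option autoImplicit false

namespace CL.SigMisc

open Cfsg Subgroup
open scoped commutatorElement

variable {G : Type*} [Group G]

/-- Every element of `A` centralizes or inverts `x`. -/
def Homog (A : Subgroup G) (x : G) : Prop :=
  ∀ a ∈ A, a * x * a⁻¹ = x ∨ a * x * a⁻¹ = x⁻¹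

theorem eq_one_of_sq_of_odd [Finite G] {K : Subgroup G} (hK : Odd (Nat.card K)) {x : G}
    (hx : x ∈ K) (h : x ^ 2 = 1) : x = 1 := by
  have h1 := K.orderOf_dvd_natCard hx
  have h2 : orderOf x ∣ 2 := orderOf_dvd_of_pow_eq_one h
  exact orderOf_eq_one_iff.mp
    (Nat.eq_one_of_dvd_coprimes (Nat.coprime_two_right.mpr hK) h1 h2)

theorem eq_one_of_eq_inv_of_odd [Finite G] {K : Subgroup G} (hK : Odd (Nat.card K)) {x : G}
    (hx : x ∈ K) (h : x = x⁻¹) : x = 1 :=
  eq_one_of_sq_of_odd hK hx (by rw [sq]; exact mul_eq_one_iff_eq_inv.mpr h)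

theorem pow_half_sq [Finite G] {K : Subgroup G} (hK : Odd (Nat.card K)) {x : G}
    (hx : x ∈ K) : x ^ ((Nat.card K + 1) / 2) * x ^ ((Nat.card K + 1) / 2) = x := by
  have h1 : x ^ Nat.card K = 1 := orderOf_dvd_iff_pow_eq_one.mp (K.orderOf_dvd_natCard hx)
  obtain ⟨k, hk⟩ := hK
  rw [← pow_add, show (Nat.card K + 1) / 2 + (Nat.card K + 1) / 2 = Nat.card K + 1 by omega,
    pow_succ, h1, one_mul]

/-- If `g` commutes with the square of an element of odd order, it commutes with the element. -/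
theorem conj_eq_of_conj_sq_eq [Finite G] {K : Subgroup G} (hK : Odd (Nat.card K)) {x g : G}
    (hx : x ∈ K) (h : g * (x * x) * g⁻¹ = x * x) : g * x * g⁻¹ = x := by
  have h1 : (x * x) ^ ((Nat.card K + 1) / 2) = x := by
    rw [(Commute.refl x).mul_pow]; exact pow_half_sq hK hx
  rw [← h1, ← conj_pow, h]

/-- If the element `a` of the elementary abelian `2`-group `A` does not centralize the
`A`-invariant subgroup `K` of odd order then it inverts a nontrivial element of `K` that is
centralized or inverted by each element of `A`. -/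
theorem exists_homog [Finite G] {A K : Subgroup G} (hA : IsElementaryAbelian 2 A)
    (hK : Odd (Nat.card K)) (hAK : A ≤ normalizer (K : Set G)) {a : G} (ha : a ∈ A)
    (hna : a ∉ centralizer (K : Set G)) :
    ∃ x ∈ K, x ≠ 1 ∧ Homog A x ∧ a * x * a⁻¹ = x⁻¹ := by
  have hsq : ∀ b ∈ A, b * b = 1 := fun b hb => by rw [← sq]; exact hA.2 b hb
  have hcc : ∀ b ∈ A, ∀ g : G, b * (b * g * b⁻¹) * b⁻¹ = g := by
    intro b hb g
    calc b * (b * g * b⁻¹) * b⁻¹ = (b * b) * g * (b * b)⁻¹ := by group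
      _ = g := by rw [hsq b hb]; group
  have hsw : ∀ b ∈ A, ∀ c ∈ A, ∀ g : G, b * (c * g * c⁻¹) * b⁻¹ = c * (b * g * b⁻¹) * c⁻¹ := by
    intro b hb c hc g
    calc b * (c * g * c⁻¹) * b⁻¹ = (b * c) * g * (b * c)⁻¹ := by group
      _ = (c * b) * g * (c * b)⁻¹ := by rw [elemAb_comm hA hb hc]
      _ = _ := by group
  have hconj : ∀ b ∈ A, ∀ k ∈ K, b * k * b⁻¹ ∈ K := fun b hb k hk =>
    (mem_normalizer_iff.mp (hAK hb) k).mp hk
  obtain ⟨B, ⟨hBA, x, hxK, hx1, hxa, hxB⟩, hmax⟩ := exists_maximal_of_wellFoundedGT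
    (fun B : Subgroup G => B ≤ A ∧ ∃ x ∈ K, x ≠ 1 ∧ a * x * a⁻¹ = x⁻¹ ∧ B ≤ centralizer {x})
    (by
      rw [mem_centralizer_iff] at hna
      push Not at hna
      obtain ⟨k, hk, hka⟩ := hna
      refine ⟨⊥, bot_le, k * (a * k * a⁻¹)⁻¹, K.mul_mem hk (K.inv_mem (hconj a ha k hk)), ?_, ?_,
        bot_le⟩
      · intro h
        apply hka
        rw [mul_inv_eq_one] at h
        exact (mul_inv_eq_iff_eq_mul.mp h.symm).symm
      · calc a * (k * (a * k * a⁻¹)⁻¹) * a⁻¹
            = (a * k * a⁻¹) * (a * (a * k * a⁻¹) * a⁻¹)⁻¹ := by group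
          _ = _ := by rw [hcc a ha]; group)
  refine ⟨x, hxK, hx1, fun b hb => ?_, hxa⟩
  set u := (b * x * b⁻¹) * x⁻¹ with hu
  have huK : u ∈ K := K.mul_mem (hconj b hb x hxK) (K.inv_mem hxK)
  set n := (Nat.card K + 1) / 2 with hn
  set r := u ^ n with hr
  have hrr : r * r = u := pow_half_sq hK huK
  by_cases hm : r * x = 1
  · right
    have h1 : r = x⁻¹ := eq_inv_of_mul_eq_one_left hm
    calc b * x * b⁻¹ = u * x := by rw [hu]; group
      _ = x⁻¹ := by rw [← hrr, h1]; group
  · left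
    have hau : a * u * a⁻¹ = x⁻¹ * u⁻¹ * x := by
      calc a * u * a⁻¹ = (a * (b * x * b⁻¹) * a⁻¹) * (a * x * a⁻¹)⁻¹ := by rw [hu]; group
        _ = _ := by rw [hsw a ha b hb, hxa, hu]; group
    have har : a * r * a⁻¹ = x⁻¹ * r⁻¹ * x := by
      rw [hr, ← conj_pow, hau]
      have := conj_pow (a := x⁻¹) (b := u⁻¹) (i := n)
      rw [inv_inv] at this
      rw [this, inv_pow]
    have hbu : b * u * b⁻¹ = u⁻¹ := by
      calc b * u * b⁻¹ = (b * (b * x * b⁻¹) * b⁻¹) * (b * x * b⁻¹)⁻¹ := by rw [hu]; group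
        _ = _ := by rw [hcc b hb, hu]; group
    have hbr : b * r * b⁻¹ = r⁻¹ := by rw [hr, ← conj_pow, hbu, inv_pow]
    have ham : a * (r * x) * a⁻¹ = (r * x)⁻¹ := by
      calc a * (r * x) * a⁻¹ = (a * r * a⁻¹) * (a * x * a⁻¹) := by group
        _ = _ := by rw [har, hxa]; group
    have hbm : b * (r * x) * b⁻¹ = r * x := by
      calc b * (r * x) * b⁻¹ = (b * r * b⁻¹) * u * x := by rw [hu]; group
        _ = _ := by rw [hbr, ← hrr]; group
    have hBm : B ≤ centralizer {r * x} := by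
      intro c hc
      have hcx : c * x * c⁻¹ = x :=
        mul_inv_eq_iff_eq_mul.mpr (mem_centralizer_singleton_iff.mp (hxB hc))
      have hcu : c * u * c⁻¹ = u := by
        calc c * u * c⁻¹ = (c * (b * x * b⁻¹) * c⁻¹) * (c * x * c⁻¹)⁻¹ := by rw [hu]; group
          _ = _ := by rw [hsw c (hBA hc) b hb, hcx]
      have hcr : c * r * c⁻¹ = r := by rw [hr, ← conj_pow, hcu]
      rw [mem_centralizer_singleton_iff, ← mul_inv_eq_iff_eq_mul]
      calc c * (r * x) * c⁻¹ = (c * r * c⁻¹) * (c * x * c⁻¹) := by group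
        _ = _ := by rw [hcr, hcx]
    have hle : B ⊔ zpowers b ≤ B := hmax ⟨sup_le hBA (zpowers_le.mpr hb), r * x,
      K.mul_mem (K.pow_mem huK n) hxK, hm, ham, sup_le hBm (zpowers_le.mpr
        (mem_centralizer_singleton_iff.mpr (mul_inv_eq_iff_eq_mul.mp hbm)))⟩ le_sup_left
    have hbB : b ∈ B := hle (mem_sup_right (mem_zpowers b))
    exact mul_inv_eq_iff_eq_mul.mpr (mem_centralizer_singleton_iff.mp (hxB hbB))

theorem exists_homog_family [Finite G] {A K : Subgroup G} (hA : IsElementaryAbelian 2 A)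
    (hK : Odd (Nat.card K)) (hAK : A ≤ normalizer (K : Set G))
    (hf : A ⊓ centralizer (K : Set G) = ⊥) (k : ℕ) :
    ∀ B : Subgroup G, B ≤ A → Nat.card B ≤ 2 ^ k → ∃ x : Fin k → G,
      (∀ i, x i ∈ K ∧ Homog A (x i)) ∧ ∀ b ∈ B, (∀ i, b * x i * b⁻¹ = x i) → b = 1 := by
  induction k with
  | zero =>
    intro B _ hB
    refine ⟨Fin.elim0, fun i => i.elim0, fun b hb _ => ?_⟩
    have : B = ⊥ := eq_bot_of_card_le B (by simpa using hB)
    rwa [this, mem_bot] at hb
  | succ k ih =>
    intro B hBA hB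
    by_cases hbot : B = ⊥
    · exact ⟨fun _ => 1, fun _ => ⟨K.one_mem, fun a _ => Or.inl (by group)⟩,
        fun b hb _ => by rwa [hbot, mem_bot] at hb⟩
    obtain ⟨⟨b, hb⟩, hb1⟩ := ne_bot_iff_exists_ne_one.mp hbot
    have hbC : b ∉ centralizer (K : Set G) := fun h => hb1 (Subtype.ext (by
      have : b ∈ A ⊓ centralizer (K : Set G) := ⟨hBA hb, h⟩
      rwa [hf, mem_bot] at this))
    obtain ⟨y, hyK, hy1, hy, hby⟩ := exists_homog hA hK hAK (hBA hb) hbC
    have hlt : B ⊓ centralizer {y} < B := by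
      refine lt_of_le_of_ne inf_le_left fun h => hy1 ?_
      have h1 : b ∈ B ⊓ centralizer {y} := by rw [h]; exact hb
      have h2 := mul_inv_eq_iff_eq_mul.mpr (mem_centralizer_singleton_iff.mp h1.2)
      exact eq_one_of_eq_inv_of_odd hK hyK (h2.symm.trans hby)
    have hc : Nat.card ↥(B ⊓ centralizer {y}) ≤ 2 ^ k := by
      have h1 := card_lt_of_lt hlt
      obtain ⟨m, hm⟩ := card_dvd_of_le hlt.le
      have h2 : 2 ≤ m := by
        rcases m with _ | _ | m
        · have := Nat.card_pos (α := B); omega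
        · omega
        · omega
      have := Nat.mul_le_mul_left (Nat.card ↥(B ⊓ centralizer {y})) h2
      omega
    obtain ⟨x, hx1, hx2⟩ := ih _ (inf_le_left.trans hBA) hc
    refine ⟨Fin.cons y x, fun i => Fin.cases ⟨hyK, hy⟩ (fun j => hx1 j) i, fun c hc hcx => ?_⟩
    exact hx2 c ⟨hc, mem_centralizer_singleton_iff.mpr (mul_inv_eq_iff_eq_mul.mp (hcx 0))⟩
      fun i => hcx i.succ

/-- A separating family of the right size has a dual basis. -/
theorem exists_dual_basis [Finite G] {A : Subgroup G} {d : ℕ} (hAd : Nat.card A = 2 ^ d)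
    (x : Fin d → G) (hx : ∀ i, Homog A (x i))
    (hsep : ∀ b ∈ A, (∀ i, b * x i * b⁻¹ = x i) → b = 1) :
    ∃ a : Fin d → G, (∀ i, a i ∈ A) ∧ (∀ i, a i * x i * (a i)⁻¹ ≠ x i) ∧
      ∀ i j, i ≠ j → a i * x j * (a i)⁻¹ = x j := by
  classical
  let φ : A → (Fin d → Bool) := fun a i => decide ((a : G) * x i * (a : G)⁻¹ = x i)
  have hinj : Function.Injective φ := by
    intro a b hab
    apply Subtype.ext
    have : (a : G)⁻¹ * b = 1 := by
      refine hsep _ (A.mul_mem (A.inv_mem a.2) b.2) fun i => ?_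
      have h1 : ((a : G) * x i * (a : G)⁻¹ = x i) ↔ ((b : G) * x i * (b : G)⁻¹ = x i) := by
        have := congrFun hab i
        simpa [φ] using this
      have h2 : (a : G) * x i * (a : G)⁻¹ = b * x i * (b : G)⁻¹ := by
        by_cases h : (a : G) * x i * (a : G)⁻¹ = x i
        · rw [h, h1.mp h]
        · rw [(hx i a a.2).resolve_left h, (hx i b b.2).resolve_left (fun h' => h (h1.mpr h'))]
      calc (a : G)⁻¹ * b * x i * ((a : G)⁻¹ * b)⁻¹ = (a : G)⁻¹ * (b * x i * (b : G)⁻¹) * a := by group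
        _ = _ := by rw [← h2]; group
    exact inv_mul_eq_one.mp this
  have hbij : Function.Bijective φ := hinj.bijective_of_nat_card_le (by simp [hAd])
  choose a ha using fun i : Fin d => hbij.2 (fun j => decide (i ≠ j))
  refine ⟨fun i => a i, fun i => (a i).2, fun i => ?_, fun i j hij => ?_⟩
  · have := congrFun (ha i) i
    simpa [φ] using this
  · have := congrFun (ha i) j
    simpa [φ, hij] using this

/-- In a finite nilpotent group no proper subgroup supplements the derived subgroup. -/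
theorem sup_commutator_ne [Finite G] {K H : Subgroup G} (hK : Group.IsNilpotent K) (hH : H < K) :
    H ⊔ ⁅K, K⁆ < K := by
  refine lt_of_le_of_ne (sup_le hH.le (commutator_le_self K)) fun h => ?_
  have h1 : H.subgroupOf K ≠ ⊤ := fun h' => hH.not_ge (subgroupOf_eq_top.mp h')
  obtain ⟨M, hM, hHM⟩ := (eq_top_or_exists_le_coatom (H.subgroupOf K)).resolve_left h1
  have hMn : M.Normal :=
    NormalizerCondition.normal_of_coatom M Group.normalizerCondition_of_isNilpotent hM
  have h2 : M ⊔ _root_.commutator K = ⊤ := by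
    apply map_injective K.subtype_injective
    rw [Subgroup.map_sup, map_subtype_commutator, ← MonoidHom.range_eq_map, range_subtype]
    refine le_antisymm (sup_le (map_subtype_le M) (commutator_le_self K)) ?_
    refine h.ge.trans (sup_le_sup_right ?_ _)
    rw [← map_subgroupOf_eq_of_le hH.le]
    exact map_mono hHM
  have h3 : Group.IsPerfect (K ⧸ M) := by
    constructor
    have := congrArg (Subgroup.map (QuotientGroup.mk' M)) h2
    rw [Subgroup.map_sup, map_top_of_surjective _ (QuotientGroup.mk'_surjective M),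
      QuotientGroup.map_mk'_self, bot_sup_eq, _root_.commutator, map_commutator,
      map_top_of_surjective _ (QuotientGroup.mk'_surjective M)] at this
    exact this
  have h4 : Nontrivial (K ⧸ M) := QuotientGroup.nontrivial_iff.mpr hM.1
  exact Group.IsPerfect.not_isSolvable (K ⧸ M) inferInstance

end CL.SigMisc
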